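import Cfsg.Agent.H6.HNR.L1
import Cfsg.Agent.H6.HNR.N.Rep
import Cfsg.Agent.H6.HNR.N.C1.Main
import Cfsg.Agent.H6.HNR.N.C2.Main
import Cfsg.Agent.H6.HNR.N.C3.Main

set_option autoImplicit false
set_option maxRecDepth 100000
set_option Elab.async false

namespace Cfsg.H6.HNR.N

theorem ub : UB (⊤ : Subgroup Grp) 1843200 :=
  ((UB.bot.cover (C3.cover hev hR)).cover (C2.cover hev hR)).cover (hX ▸ C1.cover hev hR)

theorem act : ∃ φ : Grp →* Equiv.Perm ℕ, IsAct φ ev img 120 5 := by
  obtain ⟨ψ, hψ⟩ := lift rep.1 rep.2.1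
  exact ⟨_, rep.2.2.comp ψ hψ⟩

/-- The permutation representation. -/
noncomputable def φ : Grp →* Equiv.Perm ℕ := act.choose

theorem hφ : IsAct φ ev img 120 5 := act.choose_spec

theorem finite : Finite Grp := ub.top.1

def lW0 : List (List ℕ) := [[nat_lit 1], [nat_lit 2], [nat_lit 4]]

theorem l0 : lvlChk img 120 5 [] (0, lW0, unp 119 (nat_lit 0x1102000053010000530000001c0200001c0000004c010000160100000e0000005a010000750200002b0200002702000027010000270000001902000019010000760000005f0200005f0100005f00000006010000730100001b0200005602000056010000560000004e0100002e010000570200005700000025010000420200004200000047020000470100003b0100002a0200002a00000031000000210100006101000061000000720200007201000068010000130100001e0100001e000000490100004900000050010000500000003702000037010000140100001802000018010000020200000201000002000000700200007001000043010000400000002c0000003e0200003e0100000c0100000c0000006c0200006c000000360200004f0100003f0200006e0000000b0100001d0200001d000000710200007101000008010000080000002401000067010000580100005800000051010000510000004b0200004b0100004b0000003202000032010000040100005e0200005e0100005e000000010200000101000033020000540100006a0200003c0200004a0100004a000000120200001201000012000000290100000d0200000d0100000d0000000702000007010000660200006601000066000000170100000002))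 = true := by
  decide +kernel

def lW1 : List (List ℕ) := [[nat_lit 1], [nat_lit 2]]

theorem l1 : lvlChk img 120 5 [0] (5, lW1, unp 29 (nat_lit 0x6d010000230100001c0100003500000020010000060000001e0100001e0000002f010000260100002000000041010000160000001f0100004d0000004e0100001001000076000000720100000c01000022000000450100005601000056000000500100004e0000001a010000050100000500)) = true := by
  decide +kernel

def lW2 : List (List ℕ) := [[nat_lit 2, nat_lit 1, nat_lit 3], [nat_lit 3, nat_lit 1, nat_lit 3, nat_lit 3, nat_lit 1, nat_lit 2]]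

theorem l2 : lvlChk img 120 5 [5,0] (47, lW2, unp 3 (nat_lit 0x450000002f0100002f00)) = true := by
  decide +kernel

def lW3 : List (List ℕ) := [[nat_lit 2, nat_lit 1, nat_lit 2, nat_lit 1, nat_lit 3, nat_lit 1, nat_lit 3, nat_lit 1], [nat_lit 2, nat_lit 4, nat_lit 3, nat_lit 3, nat_lit 3, nat_lit 3, nat_lit 4, nat_lit 3], [nat_lit 3, nat_lit 4, nat_lit 1, nat_lit 4, nat_lit 3, nat_lit 1, nat_lit 3, nat_lit 3], [nat_lit 4, nat_lit 1, nat_lit 4, nat_lit 1, nat_lit 3, nat_lit 3, nat_lit 1, nat_lit 3]]

theorem l3 : lvlChk img 120 5 [47,5,0] (1, lW3, unp 7 (nat_lit 0x74020000120300006c0300006c00000001030000010100000100)) = true := by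
  decide +kernel

def lW4 : List (List ℕ) := [[nat_lit 3, nat_lit 3, nat_lit 3, nat_lit 3]]

theorem l4 : lvlChk img 120 5 [1,47,5,0] (2, lW4, unp 1 (nat_lit 0x200)) = true := by
  decide +kernel

def lW5 : List (List ℕ) := [[nat_lit 2, nat_lit 2, nat_lit 2, nat_lit 2, nat_lit 4, nat_lit 3, nat_lit 1, nat_lit 2, nat_lit 4, nat_lit 1]]

theorem l5 : lvlChk img 120 5 [2,1,47,5,0] (3, lW5, unp 1 (nat_lit 0x300)) = true := by
  decide +kernel

def lW6 : List (List ℕ) := [[nat_lit 2, nat_lit 4, nat_lit 1, nat_lit 4, nat_lit 2, nat_lit 2, nat_lit 1, nat_lit 2, nat_lit 4, nat_lit 1, nat_lit 4, nat_lit 1]]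

theorem l6 : lvlChk img 120 5 [3,2,1,47,5,0] (4, lW6, unp 1 (nat_lit 0x400)) = true := by
  decide +kernel

def lW7 : List (List ℕ) := [[nat_lit 4, nat_lit 2, nat_lit 2, nat_lit 4, nat_lit 1, nat_lit 2, nat_lit 4, nat_lit 2, nat_lit 4, nat_lit 3, nat_lit 4]]

theorem l7 : lvlChk img 120 5 [4,3,2,1,47,5,0] (6, lW7, unp 1 (nat_lit 0x600)) = true := by
  decide +kernel

def bs : List ℕ := [6,4,3,2,1,47,5,0]

theorem main : Nat.card Grp = 1843200 ∧ fixS φ bs = ⊥ ∧ Oracle ev img 5 bs := by
  have := finite
  exact (LBn.cast (((((((((LBn.nil φ ⊤ 120).stepT hφ l0).stepT hφ l1).stepT hφ l2).stepT hφ l3).stepT hφ l4).stepT hφ l5).stepT hφ l6).stepT hφ l7) (by decide +kernel)).oracle hφ ub.top.2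

theorem ora : Oracle ev img 5 bs := main.2.2

end Cfsg.H6.HNR.N
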