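import Cfsg.Agent.H6.Chain

set_option autoImplicit false
set_option maxRecDepth 100000
set_option Elab.async false

namespace Cfsg.H6.HNR.N

noncomputable def get (y : ℕ) : ℕ := (sel (nat_lit 1) y (nat_lit 0x3e4bb7159efcd2a26ddfbfd4483bf3cc9bbf23a09152581f5dc1184517c9efe88087be1a2b13b4bc1473dcd2b119eef4da8594d34ce1dc5eeb0cc429494b3008781e0dcc5c6d1d928688252195451c461c86cef3b424e7a9e0aed21ba775b0d683b871faef8aef26cdf293538b15ab00c1a95f37c021455a4dc3a9c12b9559f4b5a10a8f11b7145c5baf769b0749f4192375a291bb704e16e46e808fceb907a86c35cfe21d88014a6441d5a8c94734b570e9212e57a71967059ce8d5bb5c9598b538d4e252a99aa0c672696bcd205bba2edd3294da5f32d1d34a665c0fa023080cc5e229dced997e88633190a6c332b061c1b1459238ba224a64c4c71a53e23f959a77063b47b1dc8270156c4983a4af6c302adc4a48671ec60c13e1dd7d838bae2a1fd372f901cd8f2f7abc793a4317af5e717233898f2f963fba030c572ea4a932e5c688634adf69c5c86d65c4b4b5b5b7612cb8b44695a2c48ed23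936284d6ee980481855b89657995d6aca2a32cf91aab1e06d8269cf618b69476f33343ddb136ea48883beb9f7fc69f5af0248b85bf875ebb5606a33f76a00cf51853aaae0b08736066a798cd2b509208db6ac1db82114f84146595370d47cd3a723cce30e70b4a71796147b985d647ae4e81be42b2621317634c7f6ef44f432f41567bd7ae5fce29bce410d3b6e36a18c158219f54cc5f46a7876c489435260b0cf067030f04c7ac780a5e159676e6b5a3469836f0504aefb5ae64c6d5cf5e891758c3d435f66b562d0199efce9ca0d213d7c79de379dab1eedf46a4ec122540e3d2c6818bf41590410c78e7520d5357e17e7f5b47d561567e096adc864d6058b4d31bfaf556a91219ebf7ed441b79c20fd786da4d5510d40f1d49ca7a16e7733f65b285e0ede2bb72e4e75389dd900cd4e35451462f5dbda96358fbe1bc64dd9822b09b1571857a7744c93b0a3ebab7cd3f34e919a34ba2d63eac2ce347caa0752509b330a6bd9265e8e8ea9c3423865490f5d7143060a155260c44e2d9e25e3d0c740da24c8b0ce7eaa9c4bb31f7894b01ab31754501449860b5792d8b4d3e9976d831cf9f834acb0defc115aa57b852a5792f4c59b234a56cb4714c6c9e094c6469a385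cb771a71155f41a9b2a6e6ce4c2af113e1939769d9d893eac3dc719487db632c240c3ec24059a972103de02917a6d444289b3040f5844426e0932d997167b3eec3c83921a534b21d88769c6ab10c683b48aaa200f9c3d7bae18078f2e900831f6958f8c4761d1dcee0e027d45b1c51f77cbce3ad5a12b74385340d6e2c6744981e377e62a66d4f1ccc6b665f618ec20a5e886250b3504bd7c91091118d461a2da0d25a338be60842cbcea4e781ceea147705588794dba1464240715ba9474f22d65225191853764cb22545451d569ba70b2357769e261019ca07dc045b2829e81c40b8252f53943000dd40b04b3036f2e56694749666c1d78ea4d8308c408e250c88b1f5d48f264bd454b28f62a32745c95de142d6a1aefcd35ad3edc96ef4650ac640b951409e726f9281baa4e67b974a901fbaccd1ac0772c61d8874a358c34cb1fad64102bc27bc70575869c88c4428e5099e6d9e501c43a8318db097430c84314848bd82f9999790a6a17000240000000170000000) (nat_lit 0x34a5be3efc6e81f4de09ebac30817083cdf3d5fc5bb7ed33b73e2d6810ec40f2fdb1796b219425c5e7ddcc9bd6b11553310aeb8502a14a803f08b3a25e917b941bd3a3379b03f43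0dba600a9f9f3129fb474f672737d8acb01d27be963d1d63b52f9723b5eb72e455aa09ce4676e5a230027b823bdbda51743c6f3289a8a36317a15da6e3061293ad69ba20a0e5a3aebb7aa8447c6fdf77efbe1a530782ebdf052af54736a3b9926c3e2b37319091828dd0a8ee4f8025150dfa9084c4e6de2a1ec53db6723838d8ef5c7b83244ae8c3d996e0696480c61f689e896f233041545ba75ae54eb4891efd736745afd8605190286789514c82ea6d6a52fc6e6bd60697d5c526019a72e420ad0e74fa73aae01212d61cf490e261256d141be3165342de0f456ccb7ca2d60248819b469a31da45d1c94c48e495200be4acac6274333d782db07cd4a1a4e8a4b8d0e17540094de65d9406e1818a62ca39e4c2d0b1dbc1bb7262d2d5b5ea3cf251ae51459b71d3df3d5c3b03a831cbab8d3639b4117698d485646a562870931010d824accbd6067a386c88808169b786da49c27cce53785d08c42713e4e654261fdb808c0e5f6d1ef06a47356d6eb0a5249707cb26857efa122e985f691f2690ba2cb0a2092a50856f2205d293b43c5b74e22c91de304fa1bab16b47cb5c70717411bbbdeeb8374c909034ae271d7361608b6e7016eb127616edde318b2db3eb6db4b300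75bd192dbe237325c87841aae5c2d5ae06b55ab53ddab4939d8fb404cadd365c42226eef31367711326f25fc4457363449906b02923e560ec1d94f07ea6780199ef8744dd6a8b5576e262a5985f59d65264c14de96c04d53566bd7920ac5866b3c2a845c61d772a86a2552b5d939ab554c6075511373547698329dc0a92c03c8e12a59cf5398d519c26fbc8c2e5334f3d35aa9a388fdf9883625a5d655f3d00c8a93c5d12f39a562a930219083736e39113b20e77016e647d9f4b82371e6e58f95838b70eaba1a32dfed3a81e3e5b91d455a7509710129e510b9e444e7c4b4058cf64e49cf7f1050a6f552f0d7da6d04a31010a168d4da1dc0dae35e3cdea2584e2d050154669d4e0a7f1281d14b71eb06626135fae57b324e3aef6bd84a5258ce92ea634bb1b4b641ceb6192b6363d9c5d5064e1eb7ab923286da237241de4b658ed994866ee19258de23327be8ca4728be66d9e66760bb301ab73391200489122433912245386f0da0031e3f39350147a6d29ee2d90702a9d898016309408c1c1818db0bea6ea01a1d8d6e2b4514545e8c8eed8b162f6e417b5645143319f7f52e9ecd11e6512798d92e2136eca222a2f9f87652b78ae4f09ca573dcc60691893d86ede4854ec8932d1391855049b33a416512eb61876a984198463a53f3719a0a57ba5465ab65b241a6459183a3b79602aeaaadc0ce13100))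

noncomputable def row (p : ℕ) : ℕ :=
  Nat.land (Nat.shiftRight (@Nat.rec (fun _ => ℕ) (nat_lit 0) (fun y _ => get y)
    (Nat.add (Nat.shiftRight p (nat_lit 6)) (nat_lit 1)))
    (Nat.mul (Nat.land p (nat_lit 63)) (nat_lit 147))) (nat_lit 22835963083295358096932575511191922182123945983)

noncomputable def img (x p : ℕ) : ℕ :=
  Nat.land (Nat.shiftRight (row p) (Nat.mul x (nat_lit 7))) (nat_lit 127)

def LS : List ℕ := [nat_lit 1, nat_lit 2, nat_lit 3, nat_lit 4, nat_lit 5, nat_lit 6, nat_lit 7, nat_lit 8, nat_lit 9, nat_lit 10, nat_lit 11, nat_lit 12, nat_lit 13, nat_lit 14, nat_lit 15, nat_lit 16, nat_lit 17, nat_lit 18, nat_lit 19, nat_lit 20, nat_lit 21]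

def EQS : List (List ℕ × List ℕ) := [([nat_lit 1, nat_lit 1], []), ([nat_lit 2, nat_lit 3], []), ([nat_lit 3, nat_lit 2], []), ([nat_lit 4, nat_lit 4], []), ([nat_lit 2, nat_lit 2, nat_lit 2, nat_lit 2], [nat_lit 3, nat_lit 3, nat_lit 3, nat_lit 3]), ([nat_lit 1, nat_lit 2, nat_lit 2, nat_lit 2, nat_lit 2], [nat_lit 3, nat_lit 3, nat_lit 3, nat_lit 3, nat_lit 1]), ([nat_lit 1, nat_lit 2, nat_lit 1, nat_lit 3, nat_lit 1, nat_lit 2], [nat_lit 2, nat_lit 1, nat_lit 3, nat_lit 1, nat_lit 2, nat_lit 1]), ([nat_lit 5], [nat_lit 1, nat_lit 2, nat_lit 2, nat_lit 1, nat_lit 3, nat_lit 3]), ([nat_lit 5, nat_lit 5, nat_lit 5], []), ([nat_lit 6], [nat_lit 1, nat_lit 2, nat_lit 1, nat_lit 2]), ([nat_lit 6, nat_lit 6, nat_lit 6, nat_lit 6, nat_lit 6], []), ([nat_lit 7], [nat_lit 1, nat_lit 2, nat_lit 1, nat_lit 2, nat_lit 2]), ([nat_lit 7, nat_lit 7, nat_lit 7, nat_lit 7, nat_lit 7, nat_lit 7], []), ([nat_lit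 8], [nat_lit 1, nat_lit 2, nat_lit 1, nat_lit 2, nat_lit 1, nat_lit 3, nat_lit 1, nat_lit 3]), ([nat_lit 8, nat_lit 8, nat_lit 8, nat_lit 8], []), ([nat_lit 1, nat_lit 2, nat_lit 1, nat_lit 4, nat_lit 1, nat_lit 3], [nat_lit 2, nat_lit 1, nat_lit 4, nat_lit 1, nat_lit 3, nat_lit 1]), ([nat_lit 1, nat_lit 2, nat_lit 4, nat_lit 1, nat_lit 4, nat_lit 3], [nat_lit 2, nat_lit 4, nat_lit 1, nat_lit 4, nat_lit 3, nat_lit 1]), ([nat_lit 9], [nat_lit 1, nat_lit 2, nat_lit 4, nat_lit 2, nat_lit 4, nat_lit 2, nat_lit 4]), ([nat_lit 9, nat_lit 9], []), ([nat_lit 10], [nat_lit 1, nat_lit 4, nat_lit 2, nat_lit 2, nat_lit 2, nat_lit 2, nat_lit 4]), ([nat_lit 10, nat_lit 10], []), ([nat_lit 11], [nat_lit 1, nat_lit 2, nat_lit 2, nat_lit 1, nat_lit 3, nat_lit 4, nat_lit 1, nat_lit 4]), ([nat_lit 11, nat_lit 11], []), ([nat_lit 12], [nat_lit 1, nat_lit 2, nat_lit 2, nat_lit 4]), ([nat_lit 12, nat_lit 12, nat_lit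 12, nat_lit 12], []), ([nat_lit 13], [nat_lit 1, nat_lit 3, nat_lit 3, nat_lit 3, nat_lit 4, nat_lit 2, nat_lit 2, nat_lit 4]), ([nat_lit 13, nat_lit 13], []), ([nat_lit 14], [nat_lit 1, nat_lit 2, nat_lit 1, nat_lit 3, nat_lit 4, nat_lit 3, nat_lit 4, nat_lit 3, nat_lit 3]), ([nat_lit 14, nat_lit 14], []), ([nat_lit 15], [nat_lit 1, nat_lit 2, nat_lit 4, nat_lit 2, nat_lit 4, nat_lit 3, nat_lit 3, nat_lit 3, nat_lit 4]), ([nat_lit 15, nat_lit 15], []), ([nat_lit 16], [nat_lit 1, nat_lit 3, nat_lit 4]), ([nat_lit 16, nat_lit 16, nat_lit 16, nat_lit 16, nat_lit 16, nat_lit 16], []), ([nat_lit 17], [nat_lit 1, nat_lit 3, nat_lit 4, nat_lit 3, nat_lit 4, nat_lit 3, nat_lit 4, nat_lit 1, nat_lit 4]), ([nat_lit 17, nat_lit 17], []), ([nat_lit 18], [nat_lit 1, nat_lit 2, nat_lit 1, nat_lit 3, nat_lit 3, nat_lit 4, nat_lit 2]), ([nat_lit 18, nat_lit 18, nat_lit 18], []), ([nat_lit 19], [nat_lit 1, nat_lit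 2, nat_lit 2, nat_lit 1, nat_lit 3, nat_lit 4]), ([nat_lit 19, nat_lit 19, nat_lit 19, nat_lit 19], []), ([nat_lit 20], [nat_lit 1, nat_lit 2, nat_lit 2, nat_lit 2, nat_lit 4, nat_lit 1, nat_lit 3, nat_lit 4]), ([nat_lit 20, nat_lit 20, nat_lit 20], []), ([nat_lit 21], [nat_lit 1, nat_lit 2, nat_lit 1, nat_lit 2, nat_lit 2, nat_lit 1, nat_lit 2, nat_lit 2, nat_lit 4]), ([nat_lit 21, nat_lit 21, nat_lit 21], [])]

def D : List (ℕ × List ℕ) := [(5, [1,2,2,1,3,3]), (6, [1,2,1,2]), (7, [1,2,1,2,2]), (8, [1,2,1,2,1,3,1,3]), (9, [1,2,4,2,4,2,4]), (10, [1,4,2,2,2,2,4]), (11, [1,2,2,1,3,4,1,4]), (12, [1,2,2,4]), (13, [1,3,3,3,4,2,2,4]), (14, [1,2,1,3,4,3,4,3,3]), (15, [1,2,4,2,4,3,3,3,4]), (16, [1,3,4]), (17, [1,3,4,3,4,3,4,1,4]), (18, [1,2,1,3,3,4,2]), (19, [1,2,2,1,3,4]), (20, [1,2,2,2,4,1,3,4]), (21, [1,2,1,2,2,1,2,2,4])]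

noncomputable def ptU (img : ℕ → ℕ → ℕ) (p : ℕ) : Bool := Nat.beq (Nat.lor (Nat.xor (img (nat_lit 1) (img (nat_lit 1) p)) p)
  (Nat.lor (Nat.xor (img (nat_lit 3) (img (nat_lit 2) p)) p)
  (Nat.lor (Nat.xor (img (nat_lit 2) (img (nat_lit 3) p)) p)
  (Nat.lor (Nat.xor (img (nat_lit 4) (img (nat_lit 4) p)) p)
  (Nat.lor (Nat.xor (img (nat_lit 2) (img (nat_lit 2) (img (nat_lit 2) (img (nat_lit 2) p)))) (img (nat_lit 3) (img (nat_lit 3) (img (nat_lit 3) (img (nat_lit 3) p)))))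
  (Nat.lor (Nat.xor (img (nat_lit 2) (img (nat_lit 2) (img (nat_lit 2) (img (nat_lit 2) (img (nat_lit 1) p))))) (img (nat_lit 1) (img (nat_lit 3) (img (nat_lit 3) (img (nat_lit 3) (img (nat_lit 3) p))))))
  (Nat.lor (Nat.xor (img (nat_lit 2) (img (nat_lit 1) (img (nat_lit 3) (img (nat_lit 1) (img (nat_lit 2) (img (nat_lit 1) p)))))) (img (nat_lit 1) (img (nat_lit 2) (img (nat_lit 1) (img (nat_lit 3) (img (nat_lit 1) (img (nat_lit 2) p)))))))
  (Nat.lor (Nat.xor (img (nat_lit 5) p) (img (nat_lit 3) (img (nat_lit 3) (img (nat_lit 1) (img (nat_lit 2) (img (nat_lit 2) (img (nat_lit 1) p)))))))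
  (Nat.lor (Nat.xor (img (nat_lit 5) (img (nat_lit 5) (img (nat_lit 5) p))) p)
  (Nat.lor (Nat.xor (img (nat_lit 6) p) (img (nat_lit 2) (img (nat_lit 1) (img (nat_lit 2) (img (nat_lit 1) p)))))
  (Nat.lor (Nat.xor (img (nat_lit 6) (img (nat_lit 6) (img (nat_lit 6) (img (nat_lit 6) (img (nat_lit 6) p))))) p)
  (Nat.lor (Nat.xor (img (nat_lit 7) p) (img (nat_lit 2) (img (nat_lit 2) (img (nat_lit 1) (img (nat_lit 2) (img (nat_lit 1) p))))))
  (Nat.lor (Nat.xor (img (nat_lit 7) (img (nat_lit 7) (img (nat_lit 7) (img (nat_lit 7) (img (nat_lit 7) (img (nat_lit 7) p)))))) p)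
  (Nat.lor (Nat.xor (img (nat_lit 8) p) (img (nat_lit 3) (img (nat_lit 1) (img (nat_lit 3) (img (nat_lit 1) (img (nat_lit 2) (img (nat_lit 1) (img (nat_lit 2) (img (nat_lit 1) p)))))))))
  (Nat.lor (Nat.xor (img (nat_lit 8) (img (nat_lit 8) (img (nat_lit 8) (img (nat_lit 8) p)))) p)
  (Nat.lor (Nat.xor (img (nat_lit 3) (img (nat_lit 1) (img (nat_lit 4) (img (nat_lit 1) (img (nat_lit 2) (img (nat_lit 1) p)))))) (img (nat_lit 1) (img (nat_lit 3) (img (nat_lit 1) (img (nat_lit 4) (img (nat_lit 1) (img (nat_lit 2) p)))))))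
  (Nat.lor (Nat.xor (img (nat_lit 3) (img (nat_lit 4) (img (nat_lit 1) (img (nat_lit 4) (img (nat_lit 2) (img (nat_lit 1) p)))))) (img (nat_lit 1) (img (nat_lit 3) (img (nat_lit 4) (img (nat_lit 1) (img (nat_lit 4) (img (nat_lit 2) p)))))))
  (Nat.lor (Nat.xor (img (nat_lit 9) p) (img (nat_lit 4) (img (nat_lit 2) (img (nat_lit 4) (img (nat_lit 2) (img (nat_lit 4) (img (nat_lit 2) (img (nat_lit 1) p))))))))
  (Nat.lor (Nat.xor (img (nat_lit 9) (img (nat_lit 9) p)) p)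
  (Nat.lor (Nat.xor (img (nat_lit 10) p) (img (nat_lit 4) (img (nat_lit 2) (img (nat_lit 2) (img (nat_lit 2) (img (nat_lit 2) (img (nat_lit 4) (img (nat_lit 1) p))))))))
  (Nat.lor (Nat.xor (img (nat_lit 10) (img (nat_lit 10) p)) p)
  (Nat.lor (Nat.xor (img (nat_lit 11) p) (img (nat_lit 4) (img (nat_lit 1) (img (nat_lit 4) (img (nat_lit 3) (img (nat_lit 1) (img (nat_lit 2) (img (nat_lit 2) (img (nat_lit 1) p)))))))))
  (Nat.lor (Nat.xor (img (nat_lit 11) (img (nat_lit 11) p)) p)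
  (Nat.lor (Nat.xor (img (nat_lit 12) p) (img (nat_lit 4) (img (nat_lit 2) (img (nat_lit 2) (img (nat_lit 1) p)))))
  (Nat.lor (Nat.xor (img (nat_lit 12) (img (nat_lit 12) (img (nat_lit 12) (img (nat_lit 12) p)))) p)
  (Nat.lor (Nat.xor (img (nat_lit 13) p) (img (nat_lit 4) (img (nat_lit 2) (img (nat_lit 2) (img (nat_lit 4) (img (nat_lit 3) (img (nat_lit 3) (img (nat_lit 3) (img (nat_lit 1) p)))))))))
  (Nat.lor (Nat.xor (img (nat_lit 13) (img (nat_lit 13) p)) p)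
  (Nat.lor (Nat.xor (img (nat_lit 14) p) (img (nat_lit 3) (img (nat_lit 3) (img (nat_lit 4) (img (nat_lit 3) (img (nat_lit 4) (img (nat_lit 3) (img (nat_lit 1) (img (nat_lit 2) (img (nat_lit 1) p))))))))))
  (Nat.lor (Nat.xor (img (nat_lit 14) (img (nat_lit 14) p)) p)
  (Nat.lor (Nat.xor (img (nat_lit 15) p) (img (nat_lit 4) (img (nat_lit 3) (img (nat_lit 3) (img (nat_lit 3) (img (nat_lit 4) (img (nat_lit 2) (img (nat_lit 4) (img (nat_lit 2) (img (nat_lit 1) p))))))))))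
  (Nat.lor (Nat.xor (img (nat_lit 15) (img (nat_lit 15) p)) p)
  (Nat.lor (Nat.xor (img (nat_lit 16) p) (img (nat_lit 4) (img (nat_lit 3) (img (nat_lit 1) p))))
  (Nat.lor (Nat.xor (img (nat_lit 16) (img (nat_lit 16) (img (nat_lit 16) (img (nat_lit 16) (img (nat_lit 16) (img (nat_lit 16) p)))))) p)
  (Nat.lor (Nat.xor (img (nat_lit 17) p) (img (nat_lit 4) (img (nat_lit 1) (img (nat_lit 4) (img (nat_lit 3) (img (nat_lit 4) (img (nat_lit 3) (img (nat_lit 4) (img (nat_lit 3) (img (nat_lit 1) p))))))))))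
  (Nat.lor (Nat.xor (img (nat_lit 17) (img (nat_lit 17) p)) p)
  (Nat.lor (Nat.xor (img (nat_lit 18) p) (img (nat_lit 2) (img (nat_lit 4) (img (nat_lit 3) (img (nat_lit 3) (img (nat_lit 1) (img (nat_lit 2) (img (nat_lit 1) p))))))))
  (Nat.lor (Nat.xor (img (nat_lit 18) (img (nat_lit 18) (img (nat_lit 18) p))) p)
  (Nat.lor (Nat.xor (img (nat_lit 19) p) (img (nat_lit 4) (img (nat_lit 3) (img (nat_lit 1) (img (nat_lit 2) (img (nat_lit 2) (img (nat_lit 1) p)))))))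
  (Nat.lor (Nat.xor (img (nat_lit 19) (img (nat_lit 19) (img (nat_lit 19) (img (nat_lit 19) p)))) p)
  (Nat.lor (Nat.xor (img (nat_lit 20) p) (img (nat_lit 4) (img (nat_lit 3) (img (nat_lit 1) (img (nat_lit 4) (img (nat_lit 2) (img (nat_lit 2) (img (nat_lit 2) (img (nat_lit 1) p)))))))))
  (Nat.lor (Nat.xor (img (nat_lit 20) (img (nat_lit 20) (img (nat_lit 20) p))) p)
  (Nat.lor (Nat.xor (img (nat_lit 21) p) (img (nat_lit 4) (img (nat_lit 2) (img (nat_lit 2) (img (nat_lit 1) (img (nat_lit 2) (img (nat_lit 2) (img (nat_lit 1) (img (nat_lit 2) (img (nat_lit 1) p))))))))))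
  (Nat.lor (Nat.xor (img (nat_lit 21) (img (nat_lit 21) (img (nat_lit 21) p))) p)
  (Nat.lor (Nat.div (img (nat_lit 1) p) (nat_lit 120)) (Nat.lor (Nat.div (img (nat_lit 2) p) (nat_lit 120)) (Nat.lor (Nat.div (img (nat_lit 3) p) (nat_lit 120)) (Nat.lor (Nat.div (img (nat_lit 4) p) (nat_lit 120)) (Nat.lor (Nat.div (img (nat_lit 5) p) (nat_lit 120)) (Nat.lor (Nat.div (img (nat_lit 6) p) (nat_lit 120)) (Nat.lor (Nat.div (img (nat_lit 7) p) (nat_lit 120)) (Nat.lor (Nat.div (img (nat_lit 8) p) (nat_lit 120)) (Nat.lor (Nat.div (img (nat_lit 9) p) (nat_lit 120)) (Nat.lor (Nat.div (img (nat_lit 10) p) (nat_lit 120)) (Nat.lor (Nat.div (img (nat_lit 11) p) (nat_lit 120)) (Nat.lor (Nat.div (img (nat_lit 12) p) (nat_lit 120)) (Nat.lor (Nat.div (img (nat_lit 13) p) (nat_lit 120)) (Nat.lor (Nat.div (img (nat_lit 14) p) (nat_lit 120)) (Nat.lor (Nat.div (img (nat_lit 15) p) (nat_lit 120)) (Nat.lor (Nat.div (img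 (nat_lit 16) p) (nat_lit 120)) (Nat.lor (Nat.div (img (nat_lit 17) p) (nat_lit 120)) (Nat.lor (Nat.div (img (nat_lit 18) p) (nat_lit 120)) (Nat.lor (Nat.div (img (nat_lit 19) p) (nat_lit 120)) (Nat.lor (Nat.div (img (nat_lit 20) p) (nat_lit 120)) (Nat.lor (Nat.div (img (nat_lit 21) p) (nat_lit 120)) (nat_lit 0))))))))))))))))))))))))))))))))))))))))))))))))))))))))))))))))) (nat_lit 0)

theorem ptU_eq (img : ℕ → ℕ → ℕ) (p : ℕ) : ptU img p = chkPt img (nat_lit 120) LS EQS p := rfl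

end Cfsg.H6.HNR.N
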